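import Groth.Agent.CohPullLib.BC0
import Groth.Agent.CohPullLib.BCPoint
import Groth.Agent.InvX.GenLocusPull
import Groth.Agent.H23.TrivBasic

/-!
# Lifting sections on a fibre
-/

noncomputable section

set_option autoImplicit false
set_option linter.style.haveILetI false
set_option linter.unusedSectionVars false
set_option backward.isDefEq.respectTransparency false
set_option backward.isDefEq.respectTransparency.types false
set_option maxRecDepth 4000
set_option maxHeartbeats 1000000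

universe u

open CategoryTheory CategoryTheory.Limits AlgebraicGeometry TopologicalSpace Opposite

namespace Groth.Agent.RelVA

open Groth.Agent

variable {S : Scheme.{u}}

theorem appLE_residue {y : S} {V : S.Opens} (hy : y ∈ V) (a : Γ(S, V)) :
    (S.fromSpecResidueField y).appLE V ⊤ (CohPullLib.top_le_preimage_residue hy) a =
      (Scheme.ΓSpecIso (S.residueField y)).inv (S.residue y (S.presheaf.germ V y hy a)) := by
  refine ConcreteCategory.congr_hom
    (?_ : _ = S.presheaf.germ V y hy ≫ S.residue y ≫ (Scheme.ΓSpecIso (S.residueField y)).inv) a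
  simp only [Scheme.fromSpecResidueField, Scheme.Hom.comp_appLE, Scheme.fromSpecStalk_app (hxU := hy),
    Category.assoc, Scheme.Hom.map_appLE]
  rw [Scheme.ΓSpecIso_inv_naturality]
  congr 2

/-- Functions at a point are fractions of functions on an affine neighbourhood. -/
theorem exists_fraction {y : S} {V : S.Opens} (hV : IsAffineOpen V) (hy : y ∈ V) (c : Γ(Spec (S.residueField y), ⊤)) :
    ∃ a b : Γ(S, V), IsUnit ((S.fromSpecResidueField y).appLE V ⊤ (CohPullLib.top_le_preimage_residue hy) b) ∧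
      (S.fromSpecResidueField y).appLE V ⊤ (CohPullLib.top_le_preimage_residue hy) b * c =
        (S.fromSpecResidueField y).appLE V ⊤ (CohPullLib.top_le_preimage_residue hy) a := by
  obtain ⟨c', rfl⟩ := (ConcreteCategory.bijective_of_isIso (Scheme.ΓSpecIso (S.residueField y)).inv).2 c
  obtain ⟨z, rfl⟩ := S.residue_surjective y c'
  letI := (S.presheaf.germ V y hy).hom.toAlgebra
  haveI : IsLocalization.AtPrime (S.presheaf.stalk y) (hV.primeIdealOf ⟨y, hy⟩).asIdeal :=
    hV.isLocalization_stalk ⟨y, hy⟩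
  obtain ⟨⟨a, s⟩, h⟩ := IsLocalization.surj (hV.primeIdealOf ⟨y, hy⟩).asIdeal.primeCompl z
  refine ⟨a, s.1, ?_, ?_⟩
  · rw [appLE_residue hy]
    have hu : IsUnit (S.presheaf.germ V y hy s.1) := IsLocalization.map_units (S.presheaf.stalk y) s
    exact (hu.map (S.residue y).hom).map (Scheme.ΓSpecIso (S.residueField y)).inv.hom
  · rw [appLE_residue hy, appLE_residue hy, ← map_mul, ← map_mul, mul_comm]
    exact congrArg _ (congrArg _ h)

/-- Sections of an inverse image on a point are fractions of pulled back sections. -/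
theorem exists_scaled_pullSec {y : S} {V : S.Opens} (hV : IsAffineOpen V) (hy : y ∈ V) {M : S.Modules}
    (hM : Coh.IsQCoh M) (z : Γ((Scheme.Modules.pullback (S.fromSpecResidueField y)).obj M, ⊤)) :
    ∃ (b : Γ(S, V)) (n : Γ(M, V)),
      IsUnit ((S.fromSpecResidueField y).appLE V ⊤ (CohPullLib.top_le_preimage_residue hy) b) ∧
      (S.fromSpecResidueField y).appLE V ⊤ (CohPullLib.top_le_preimage_residue hy) b • z =
        QCoh.pullSec (S.fromSpecResidueField y) M (CohPullLib.top_le_preimage_residue hy) n := by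
  let g := S.fromSpecResidueField y
  let hle := CohPullLib.top_le_preimage_residue (V := V) hy
  let φ := g.appLE V ⊤ hle
  letI : Algebra Γ(S, V) Γ(Spec (S.residueField y), ⊤) := φ.hom.toAlgebra
  letI : Module Γ(S, V) Γ((Scheme.Modules.pullback g).obj M, ⊤) := Module.compHom _ φ.hom
  haveI : IsScalarTower Γ(S, V) Γ(Spec (S.residueField y), ⊤) Γ((Scheme.Modules.pullback g).obj M, ⊤) :=
    IsScalarTower.of_compHom _ _ _
  let l : Γ(M, V) →ₗ[Γ(S, V)] Γ((Scheme.Modules.pullback g).obj M, ⊤) :=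
    { toFun := fun x => QCoh.pullSec g M hle x
      map_add' := fun a b => QCoh.pullSec_add g M hle a b
      map_smul' := fun r x => QCoh.pullSec_smul g M hle r x }
  have hbc : IsBaseChange Γ(Spec (S.residueField y), ⊤) l :=
    QCoh.isBaseChange_pullback (hV := hV) (φ := g) (hW := isAffineOpen_top _) hM hle (fun _ => rfl) l fun _ => rfl
  refine hbc.inductionOn z (fun z => ∃ (b : Γ(S, V)) (n : Γ(M, V)), IsUnit (φ b) ∧ φ b • z = QCoh.pullSec g M hle n)
    ?_ (fun m => ⟨1, m, by simp, by rw [map_one, one_smul]; rfl⟩) ?_ ?_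
  · exact ⟨1, 0, by simp, by rw [smul_zero]; exact (map_zero l).symm⟩
  · rintro c w ⟨b, n, hb, hn⟩
    obtain ⟨a, b', hb', hc⟩ := exists_fraction hV hy c
    refine ⟨b * b', a • n, by rw [map_mul]; exact hb.mul hb', ?_⟩
    rw [QCoh.pullSec_smul g M hle, ← hn, map_mul, smul_smul, smul_smul, ← hc]
    congr 1
    ring
  · rintro w₁ w₂ ⟨b₁, n₁, hb₁, hn₁⟩ ⟨b₂, n₂, hb₂, hn₂⟩
    refine ⟨b₁ * b₂, b₂ • n₁ + b₁ • n₂, by rw [map_mul]; exact hb₁.mul hb₂, ?_⟩
    rw [QCoh.pullSec_add, QCoh.pullSec_smul g M hle, QCoh.pullSec_smul g M hle, ← hn₁, ← hn₂, smul_add, map_mul,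
      smul_smul, smul_smul]
    congr 2
    ring

variable {X : Scheme.{u}} {f : X ⟶ S}

theorem le_fibre {y : S} {V : S.Opens} (hy : y ∈ V) : (⊤ : (f.fiber y).Opens) ≤ f.fiberι y ⁻¹ᵁ (f ⁻¹ᵁ V) := by
  intro z _
  show f (f.fiberι y z) ∈ V
  have h : f (f.fiberι y z) = y := (Scheme.Hom.range_fiberι f y).le (Set.mem_range_self z)
  rwa [h]

/-- Sections on a fibre lift, up to a common unit, when the base change map in degree zero is onto. -/
theorem exists_scaled_lifts [QuasiCompact f] [QuasiSeparated f] {L : X.Modules} (hL : Coh.IsQCoh L) {y : S}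
    {V : S.Opens} (hV : IsAffineOpen V) (hy : y ∈ V)
    (h : Function.Surjective ((CohBC.bc0 f (S.fromSpecResidueField y) (f.fiberToSpecResidueField y) (f.fiberι y)
      (f.fiber_fac y) L).app ⊤))
    {ι : Type*} [Finite ι] (t : ι → Γ((Scheme.Modules.pullback (f.fiberι y)).obj L, ⊤)) :
    ∃ (c : Γ(f.fiber y, ⊤)) (τ : ι → Γ(L, f ⁻¹ᵁ V)), IsUnit c ∧
      ∀ l, QCoh.pullSec (f.fiberι y) L (le_fibre hy) (τ l) = c • t l := by
  classical
  haveI := Fintype.ofFinite ι
  let g := S.fromSpecResidueField y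
  let hle := CohPullLib.top_le_preimage_residue (V := V) hy
  let φ := g.appLE V ⊤ hle
  let q := f.fiberToSpecResidueField y
  choose z hz using fun l => h (t l)
  choose b n hb hn using fun l => exists_scaled_pullSec hV hy (QCoh.isQCoh_pushforward f hL) (z l)
  refine ⟨q.appTop (φ (∏ l, b l)), fun l => (show Γ(L, f ⁻¹ᵁ V) from (∏ j ∈ Finset.univ.erase l, b j) • n l),
    ?_, fun l => ?_⟩
  · have hu : IsUnit (φ (∏ l, b l)) := by
      rw [map_prod]
      exact IsUnit.prod_iff.2 fun l _ => hb l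
    exact hu.map q.appTop.hom
  · have h1 := congrArg ((CohBC.bc0 f g q (f.fiberι y) (f.fiber_fac y) L).app ⊤)
      (QCoh.pullSec_smul g ((Scheme.Modules.pushforward f).obj L) hle (∏ j ∈ Finset.univ.erase l, b j) (n l))
    rw [CohPullLib.bc0_app_pullSec (f.fiber_fac y) L hle, ← hn l, smul_smul, Scheme.Modules.Hom.app_smul, hz l,
      ← map_mul, Finset.prod_erase_mul _ _ (Finset.mem_univ l)] at h1
    exact h1

/-- A section restricting to a frame at a point of a closed subscheme is a frame near the point. -/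
theorem exists_frame_of_pull {Z : Scheme.{u}} (r : Z ⟶ X) {L : X.Modules} (hL : PicF.IsInvertible L) {W : X.Opens}
    (n : Γ(L, W)) {O : Z.Opens} (hO : O ≤ r ⁻¹ᵁ W)
    (hf : InvX.IsFrame (AModX.res _ hO (InvX.pullElt r n))) {z : Z} (hz : z ∈ O) :
    ∃ (U : X.Opens) (hU : U ≤ W), r z ∈ U ∧ InvX.IsFrame (AModX.res L hU n) := by
  obtain ⟨U₀, hxU₀, ε₀, hε₀⟩ := InvX.exists_frame hL (r z)
  let U := U₀ ⊓ W
  let ε := AModX.res L (inf_le_left : U ≤ U₀) ε₀
  have hε : InvX.IsFrame ε := hε₀.res _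
  obtain ⟨a, ha⟩ := hε.exists_coord le_rfl (AModX.res L (inf_le_right : U ≤ W) n)
  rw [AModX.res_self] at ha
  let O' := O ⊓ r ⁻¹ᵁ U
  have h2 := hf.res (inf_le_left : O' ≤ O)
  have h3 : AModX.res ((Scheme.Modules.pullback r).obj L) (inf_le_left : O' ≤ O) (AModX.res _ hO (InvX.pullElt r n)) =
      AModX.resR (inf_le_right : O' ≤ r ⁻¹ᵁ U) (r.app U a) •
        AModX.res _ (inf_le_right : O' ≤ r ⁻¹ᵁ U) (InvX.pullElt r ε) := by
    rw [AModX.res_res, ← AModX.res_smul]
    refine Eq.trans ?_ (congrArg (AModX.res _ (inf_le_right : O' ≤ r ⁻¹ᵁ U))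
      ((InvX.res_pullElt r (inf_le_right : U ≤ W) n).trans (by rw [ha, InvX.pullElt_smul])))
    rw [AModX.res_res]
  rw [h3] at h2
  have hεr := (InvX.isFrame_pullElt r hε).res (inf_le_right : O' ≤ r ⁻¹ᵁ U)
  obtain ⟨c, hc⟩ := h2.exists_coord le_rfl (AModX.res _ (inf_le_right : O' ≤ r ⁻¹ᵁ U) (InvX.pullElt r ε))
  rw [AModX.res_self, smul_smul] at hc
  have hu : c * AModX.resR (inf_le_right : O' ≤ r ⁻¹ᵁ U) (r.app U a) = 1 := hεr.coord_unique le_rfl (by
    rw [AModX.res_self, one_smul, ← hc])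
  have hz' : z ∈ r ⁻¹ᵁ X.basicOpen a := by
    rw [Scheme.preimage_basicOpen]
    have h4 : z ∈ Z.basicOpen (AModX.resR (inf_le_right : O' ≤ r ⁻¹ᵁ U) (r.app U a)) := by
      rw [Scheme.basicOpen_of_isUnit _ (IsUnit.of_mul_eq_one c ((mul_comm _ _).trans hu))]
      exact ⟨hz, hxU₀, hO hz⟩
    exact (Scheme.basicOpen_res _ _ _).le.trans inf_le_right h4
  refine ⟨X.basicOpen a, (X.basicOpen_le a).trans inf_le_right, hz', ?_⟩
  rw [← AModX.res_res (M := L) (inf_le_right : U ≤ W) (X.basicOpen_le a), ha, AModX.res_smul]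
  exact (hε.res _).isUnit_smul (RingedSpace.isUnit_res_basicOpen _ a)

end Groth.Agent.RelVA
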