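import Groth.Agent.RelVA.ClosedFibre
import Groth.Agent.RelVA.Lifts
import Groth.Agent.RGLib.PnVeryAmple
import Groth.Agent.RGLib.VAmpleImm
import Groth.Agent.ProjUPX.Affine
import Groth.Agent.AmpleX.Locus
import Groth.Agent.CohPullLib.NbhdExchange
import Groth.Agent.CohPullLib.SectPull
import Groth.Agent.AmpleVan.CounitEpi
import Groth.Agent.PnCoh.Chow.Proper
import Groth.Agent.H23.Seesaw

/-!
# Fibrewise very ampleness and exchange in degree zero give relative very ampleness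
-/

noncomputable section

set_option autoImplicit false
set_option linter.style.haveILetI false
set_option linter.unusedSectionVars false
set_option backward.isDefEq.respectTransparency false
set_option backward.isDefEq.respectTransparency.types false
set_option maxRecDepth 4000
set_option maxHeartbeats 2000000

universe u

open CategoryTheory CategoryTheory.Limits AlgebraicGeometry TopologicalSpace Opposite

namespace Groth.Agent.RelVA

open Groth.Agent
open Groth.Agent.ExistEasy (pullSec_natural pullSec_comp pullSec_congr)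

theorem pullG_eq_pullSec {R A : Type u} [CommRing R] [CommRing A] [Algebra R A] {𝒜 : ℕ → Submodule R A}
    [GradedAlgebra 𝒜] {X : Scheme.{u}} (r : X ⟶ Proj 𝒜) {a : A} (ha : a ∈ 𝒜 1) :
    ProjUPX.pullG r ha = QCoh.pullSec r (Twist.twist 𝒜 1) (W := ⊤) (V := ⊤) le_top (ProjUPX.sec 𝒜 ha) :=
  (ConcreteCategory.congr_hom (((Scheme.Modules.pullback r).obj (Twist.twist 𝒜 1)).presheaf.map_id _) _).symm

theorem smulModΓ_app {X : Scheme.{u}} (M : X.Modules) (c : Γ(X, ⊤)) {U : X.Opens} (x : Γ(M, U)) :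
    (Formal.smulModΓ M c).app U x = (show Γ(X, U) from X.presheaf.map (homOfLE (le_top : U ≤ ⊤)).op c) • x :=
  rfl

theorem smulModΓ_app_top {X : Scheme.{u}} (M : X.Modules) (c : Γ(X, ⊤)) (x : Γ(M, ⊤)) :
    (Formal.smulModΓ M c).app ⊤ x = c • x := by
  rw [smulModΓ_app]
  congr 1
  exact ConcreteCategory.congr_hom (X.presheaf.map_id _) c

theorem smulModΓ_comp {X : Scheme.{u}} (M : X.Modules) (c d : Γ(X, ⊤)) (h : c * d = 1) :
    Formal.smulModΓ M c ≫ Formal.smulModΓ M d = 𝟙 M := by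
  refine Scheme.Modules.hom_ext _ _ fun U => ?_
  ext x
  simp only [Scheme.Modules.Hom.comp_app, ConcreteCategory.comp_apply, smulModΓ_app]
  rw [smul_smul, ← map_mul, (mul_comm d c).trans h, map_one, one_smul]
  rfl

/-- Multiplication by a unit. -/
def smulIso {X : Scheme.{u}} (M : X.Modules) (c d : Γ(X, ⊤)) (h : c * d = 1) : M ≅ M :=
  ⟨Formal.smulModΓ M c, Formal.smulModΓ M d, smulModΓ_comp M c d h, smulModΓ_comp M d c ((mul_comm _ _).trans h)⟩

theorem exists_restrict_pullback_iso {X F : Scheme.{u}} (L : X.Modules) (U : X.Opens) (g : F ⟶ X) (ι' : F ⟶ U.toScheme)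
    (hι' : ι' ≫ U.ι = g) (O : X.Opens) (h₀ : U.ι ''ᵁ ⊤ ≤ O) (h₁ : (⊤ : U.toScheme.Opens) ≤ U.ι ⁻¹ᵁ O)
    (h₂ : (⊤ : F.Opens) ≤ g ⁻¹ᵁ O) :
    ∃ e : (Scheme.Modules.pullback ι').obj (L.restrict U.ι) ≅ (Scheme.Modules.pullback g).obj L, ∀ x : Γ(L, O),
      e.hom.app ⊤ (QCoh.pullSec ι' (L.restrict U.ι) (W := ⊤) (V := ⊤) le_top
        (show Γ(L.restrict U.ι, ⊤) from AModX.res L h₀ x)) = QCoh.pullSec g L h₂ x := by
  refine ⟨(Scheme.Modules.pullback ι').mapIso ((Scheme.Modules.restrictFunctorIsoPullback U.ι).app L) ≪≫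
      (Scheme.Modules.pullbackComp ι' U.ι).app L ≪≫ (Scheme.Modules.pullbackCongr hι').app L, fun x => ?_⟩
  simp only [Iso.trans_hom, Functor.mapIso_hom, Iso.app_hom, Scheme.Modules.Hom.comp_app, ConcreteCategory.comp_apply]
  refine (congrArg (fun z => ((Scheme.Modules.pullbackCongr hι').hom.app L).app ⊤
    (((Scheme.Modules.pullbackComp ι' U.ι).hom.app L).app ⊤ z)) (pullSec_natural ι' _ _ _)).trans ?_
  refine (congrArg (fun z => ((Scheme.Modules.pullbackCongr hι').hom.app L).app ⊤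
    (((Scheme.Modules.pullbackComp ι' U.ι).hom.app L).app ⊤ (QCoh.pullSec ι' _ (W := ⊤) (V := ⊤) le_top z)))
    (CohPullLib.restrictIso_res U.ι L h₁ h₀ x)).trans ?_
  refine (congrArg (fun z => ((Scheme.Modules.pullbackCongr hι').hom.app L).app ⊤ z)
    (pullSec_comp ι' U.ι L h₁ le_top x)).trans ?_
  exact pullSec_congr hι' L _ _

theorem isImmersion_comp_of_restrict {A B C : Scheme.{u}} (i : B ⟶ C) (κ : A ⟶ B) [IsOpenImmersion κ] (O : C.Opens)
    (hO : IsClosedImmersion (i ∣_ O)) (h : ∀ z, κ z ∈ i ⁻¹ᵁ O) : IsImmersion (κ ≫ i) := by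
  haveI := hO
  have hrng : Set.range κ ⊆ Set.range (i ⁻¹ᵁ O).ι := by
    rw [Scheme.Opens.range_ι]
    rintro _ ⟨z, rfl⟩
    exact h z
  let κ' : A ⟶ (i ⁻¹ᵁ O).toScheme := IsOpenImmersion.lift (i ⁻¹ᵁ O).ι κ hrng
  haveI : IsOpenImmersion (κ' ≫ (i ⁻¹ᵁ O).ι) := by
    rw [IsOpenImmersion.lift_fac]
    infer_instance
  haveI : IsOpenImmersion κ' := IsOpenImmersion.of_comp κ' (i ⁻¹ᵁ O).ι
  rw [show κ ≫ i = κ' ≫ (i ∣_ O) ≫ O.ι by rw [morphismRestrict_ι, IsOpenImmersion.lift_fac_assoc]]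
  infer_instance

theorem comp_eq_of_sections {R A : Type u} [CommRing R] [CommRing A] [Algebra R A] {𝒜 : ℕ → Submodule R A}
    [GradedAlgebra 𝒜] {F Y : Scheme.{u}} {κ : Type*} (ι' : F ⟶ Y) (r : Y ⟶ Proj 𝒜) (r₂ : F ⟶ Proj 𝒜)
    {T : κ → A} (hT : ∀ i, T i ∈ 𝒜 1) (hgen : Algebra.adjoin R (Set.range T) = ⊤)
    (covT : ∀ y : Proj 𝒜, ∃ i, y ∈ Proj.basicOpen 𝒜 (T i))
    (hrr : ι' ≫ r ≫ Proj.toSpecZero 𝒜 ≫ Spec.map (CommRingCat.ofHom (algebraMap R (𝒜 0))) =
      r₂ ≫ Proj.toSpecZero 𝒜 ≫ Spec.map (CommRingCat.ofHom (algebraMap R (𝒜 0))))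
    {L' : Y.Modules} {M : F.Modules} (τiso : (Scheme.Modules.pullback r).obj (Twist.twist 𝒜 1) ≅ L')
    (s : κ → Γ(L', ⊤)) (hs : ∀ l, τiso.hom.app ⊤ (ProjUPX.pullG r (hT l)) = s l)
    (e' : (Scheme.Modules.pullback ι').obj L' ≅ M) (t : κ → Γ(M, ⊤)) (c d : Γ(F, ⊤)) (hd : d * c = 1)
    (he' : ∀ l, e'.hom.app ⊤ (QCoh.pullSec ι' L' (W := ⊤) (V := ⊤) le_top (s l)) = c • t l)
    (e₂ : M ≅ (Scheme.Modules.pullback r₂).obj (Twist.twist 𝒜 1))
    (ht : ∀ l, e₂.hom.app ⊤ (t l) = ProjUPX.pullG r₂ (hT l)) : ι' ≫ r = r₂ := by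
  let τ : (Scheme.Modules.pullback (ι' ≫ r)).obj (Twist.twist 𝒜 1) ≅
      (Scheme.Modules.pullback r₂).obj (Twist.twist 𝒜 1) :=
    ((Scheme.Modules.pullbackComp ι' r).app _).symm ≪≫ (Scheme.Modules.pullback ι').mapIso τiso ≪≫ e' ≪≫
      smulIso M d c hd ≪≫ e₂
  refine ProjUPX.eq_of_iso_pullback hT hgen covT _ _ (by rw [Category.assoc]; exact hrr) τ fun l => ?_
  simp only [τ, Iso.trans_hom, Iso.symm_hom, Iso.app_inv, Functor.mapIso_hom, Scheme.Modules.Hom.comp_app,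
    ConcreteCategory.comp_apply]
  rw [pullG_eq_pullSec (ι' ≫ r)]
  have h0 : ((Scheme.Modules.pullbackComp ι' r).inv.app (Twist.twist 𝒜 1)).app ⊤
      (QCoh.pullSec (ι' ≫ r) (Twist.twist 𝒜 1) (W := ⊤) (V := ⊤) le_top (ProjUPX.sec 𝒜 (hT l))) =
    QCoh.pullSec ι' ((Scheme.Modules.pullback r).obj (Twist.twist 𝒜 1)) (W := ⊤) (V := ⊤) le_top
      (QCoh.pullSec r (Twist.twist 𝒜 1) (W := ⊤) (V := ⊤) le_top (ProjUPX.sec 𝒜 (hT l))) :=
    CohPullLib.pullbackComp_inv_pullSec ι' r (Twist.twist 𝒜 1) (U := ⊤) (V := ⊤) le_top le_top _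
  refine (congrArg (fun z => e₂.hom.app ⊤ ((smulIso M d c hd).hom.app ⊤ (e'.hom.app ⊤
    (((Scheme.Modules.pullback ι').map τiso.hom).app ⊤ z)))) h0).trans ?_
  refine (congrArg (fun z => e₂.hom.app ⊤ ((smulIso M d c hd).hom.app ⊤ (e'.hom.app ⊤ z)))
    (pullSec_natural ι' τiso.hom _ _)).trans ?_
  rw [← pullG_eq_pullSec r, hs l, he' l]
  show e₂.hom.app ⊤ ((Formal.smulModΓ M d).app ⊤ (c • t l)) = _
  rw [smulModΓ_app_top, smul_smul, hd, one_smul, ht]

variable {X S : Scheme.{u}} (f : X ⟶ S) [IsProper f]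

/-- The map to projective space near a fibre given by lifts of the sections defining one on the fibre. -/
theorem exists_nhd_map {L : X.Modules} (hL : PicF.IsInvertible L) (y : S)
    (h : Function.Surjective ((CohBC.bc0 f (S.fromSpecResidueField y) (f.fiberToSpecResidueField y) (f.fiberι y)
      (f.fiber_fac y) L).app ⊤)) {N : ℕ} (j : f.fiber y ⟶ CohB1.ProjSpaceOver N (Spec (S.residueField y)))
    (hjq : j ≫ pullback.snd (CohB1.ProjSpace.toSpec N (ULift.{u} ℤ)) (specULiftZIsTerminal.from (Spec (S.residueField y))) =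
      f.fiberToSpecResidueField y)
    (e : (Scheme.Modules.pullback (f.fiberι y)).obj L ≅
      (Scheme.Modules.pullback j).obj (Twist.twistOver N (Spec (S.residueField y)) 1)) :
    ∃ (V' : S.Opens) (_ : y ∈ V') (r : (f ⁻¹ᵁ V').toScheme ⟶ CohB1.ProjSpace N (ULift.{u} ℤ))
      (a : Spec (S.residueField y) ⟶ V'.toScheme), a ≫ V'.ι = S.fromSpecResidueField y ∧
      Nonempty ((Scheme.Modules.pullback r).obj (Twist.twist (CohB1.polyGrading N (ULift.{u} ℤ)) 1) ≅
        L.restrict (f ⁻¹ᵁ V').ι) ∧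
      ∀ i : (f ⁻¹ᵁ V').toScheme ⟶ pullback (CohB1.ProjSpace.toSpec N (ULift.{u} ℤ)) (specULiftZIsTerminal.from V'.toScheme),
        i ≫ pullback.fst (CohB1.ProjSpace.toSpec N (ULift.{u} ℤ)) (specULiftZIsTerminal.from V'.toScheme) = r →
        i ≫ pullback.snd (CohB1.ProjSpace.toSpec N (ULift.{u} ℤ)) (specULiftZIsTerminal.from V'.toScheme) = f ∣_ V' →
        ∀ (P : MorphismProperty Scheme.{u}) [P.RespectsIso], P j →
          P (overMap i (pullback.snd (CohB1.ProjSpace.toSpec N (ULift.{u} ℤ)) (specULiftZIsTerminal.from V'.toScheme)) a) := by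
  classical
  obtain ⟨V, hV, hy, -⟩ := exists_isAffineOpen_mem_and_subset (x := y) (U := (⊤ : S.Opens)) trivial
  let Z := ULift.{u} ℤ
  let 𝒜 := CohB1.polyGrading N Z
  let T : ULift.{u} (Fin (N + 1)) → MvPolynomial (Fin (N + 1)) Z := fun l => MvPolynomial.X l.down
  have hT : ∀ l, T l ∈ 𝒜 1 := fun l => ProjPt.X_mem l.down
  have hgen : Algebra.adjoin Z (Set.range T) = ⊤ := by
    rw [show Set.range T = Set.range (MvPolynomial.X : Fin (N + 1) → _) from
      Set.ext fun p => ⟨fun ⟨i, h⟩ => ⟨i.down, h⟩, fun ⟨i, h⟩ => ⟨⟨i⟩, h⟩⟩]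
    exact MvPolynomial.adjoin_range_X
  let q := f.fiberToSpecResidueField y
  let F := f.fiber y
  let r₂ : F ⟶ CohB1.ProjSpace N Z := j ≫ pullback.fst _ _
  let e₂ : (Scheme.Modules.pullback (f.fiberι y)).obj L ≅ (Scheme.Modules.pullback r₂).obj (Twist.twist 𝒜 1) :=
    e ≪≫ (Scheme.Modules.pullbackComp j (pullback.fst (CohB1.ProjSpace.toSpec N Z) _)).app (Twist.twist 𝒜 1)
  let t : ULift.{u} (Fin (N + 1)) → Γ((Scheme.Modules.pullback (f.fiberι y)).obj L, ⊤) :=
    fun l => e₂.inv.app ⊤ (ProjUPX.pullG r₂ (hT l))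
  obtain ⟨c, τ₀, hc, hτ₀⟩ := exists_scaled_lifts (ProjUPX.isQCoh_of_isInvertible hL) hV hy h t
  -- frames near the fibre
  have hfib : ∀ x : X, f x = y → ∃ (l : ULift.{u} (Fin (N + 1))) (U : X.Opens) (hU : U ≤ f ⁻¹ᵁ V),
      x ∈ U ∧ InvX.IsFrame (AModX.res L hU (τ₀ l)) := by
    intro x hx
    obtain ⟨z, rfl⟩ : x ∈ Set.range (f.fiberι y) := (Scheme.Hom.range_fiberι f y).symm ▸ hx
    obtain ⟨l, hl⟩ := PnCoh.Chow.cov_coord Z (r₂ z)
    let O : F.Opens := r₂ ⁻¹ᵁ Proj.basicOpen 𝒜 (T l)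
    have h1 : InvX.IsFrame (AModX.res _ (le_top : O ≤ ⊤) (t l)) := by
      have h2 := InvX.IsFrame.map_iso e₂.symm (ProjUPX.isFrame_pullG r₂ (hT l))
      rw [AModX.app_res] at h2
      exact h2
    have h3 : InvX.IsFrame (AModX.res _ (le_top : O ≤ ⊤) (c • t l)) := by
      rw [AModX.res_smul]
      exact h1.isUnit_smul (hc.map (AModX.resR (le_top : O ≤ ⊤)))
    rw [← hτ₀ l] at h3
    have h4 : AModX.res ((Scheme.Modules.pullback (f.fiberι y)).obj L) (le_top : O ≤ ⊤)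
        (QCoh.pullSec (f.fiberι y) L (le_fibre hy) (τ₀ l)) =
        AModX.res _ (le_top.trans (le_fibre hy)) (InvX.pullElt (f.fiberι y) (τ₀ l)) :=
      AModX.res_res _ _ _
    rw [h4] at h3
    obtain ⟨U, hU, hzU, hUf⟩ := exists_frame_of_pull (f.fiberι y) hL (τ₀ l) _ h3 hl
    exact ⟨l, U, hU, hzU, hUf⟩
  let B : Set X := {x | ∃ (l : ULift.{u} (Fin (N + 1))) (U : X.Opens) (hU : U ≤ f ⁻¹ᵁ V),
    x ∈ U ∧ InvX.IsFrame (AModX.res L hU (τ₀ l))}
  have hB : IsOpen B := isOpen_iff_forall_mem_open.2 fun x ⟨l, U, hU, hxU, hUf⟩ =>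
    ⟨U, fun x' hx' => ⟨l, U, hU, hx', hUf⟩, U.isOpen, hxU⟩
  let C : Set S := f '' Bᶜ
  have hC : IsClosed C := (Scheme.Hom.isClosedMap f) _ hB.isClosed_compl
  obtain ⟨V', hV', hyV', hV'le⟩ := exists_isAffineOpen_mem_and_subset (x := y)
    (U := (⟨Cᶜ, hC.isOpen_compl⟩ : S.Opens) ⊓ V) ⟨fun ⟨x, hx, hxy⟩ => hx (hfib x hxy), hy⟩
  -- the morphism to projective space
  let U' := f ⁻¹ᵁ V'
  let f' := f ∣_ V'
  let L' := L.restrict U'.ι
  have hU'le : U'.ι ''ᵁ ⊤ ≤ f ⁻¹ᵁ V := by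
    rw [Scheme.Opens.ι_image_top]
    exact f.preimage_mono fun x hx => (hV'le hx).2
  let τ' : ULift.{u} (Fin (N + 1)) → Γ(L', ⊤) := fun l => AModX.res L hU'le (τ₀ l)
  have hL' : PicF.IsInvertible L' := AmpleX.isInvertible_restrict U'.ι hL
  have hsgen : ProjUP.GeneratedBy L' τ' := ProjUPX.generatedBy_of_frames τ' fun z => by
    obtain ⟨l, U, hU, hzU, hUf⟩ : U'.ι z ∈ B := by
      by_contra hz
      exact (hV'le z.2).1 ⟨_, hz, rfl⟩
    refine ⟨l, U'.ι ⁻¹ᵁ U, hzU, ?_⟩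
    refine (AmpleX.isFrame_restrict_iff U'.ι _).2 ?_
    show InvX.IsFrame (AModX.res L (U'.ι.image_mono le_top) (AModX.res L hU'le (τ₀ l)))
    rw [AModX.res_res]
    have h2 := hUf.res (Scheme.Hom.image_preimage_le U'.ι U)
    rw [AModX.res_res] at h2
    exact h2
  let qZ : U'.toScheme ⟶ Spec (CommRingCat.of Z) := specULiftZIsTerminal.from _
  obtain ⟨r, -, τiso, hτiso⟩ := ProjUPX.exists_map (𝒜 := 𝒜) qZ hL' _ T hT hgen (PnCoh.Chow.cov_coord Z) τ' hsgen
    (fun W v k _ _ => ⟨MvPolynomial.eval₂Hom ((AModX.resR (le_top : W ≤ ⊤)).comp (ProjUP.toGlobal qZ)) (fun i => v ⟨i⟩),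
      fun l => MvPolynomial.eval₂Hom_X' _ _ _, fun z => MvPolynomial.eval₂Hom_C _ _ z⟩)
  -- the fibre
  have hrng : Set.range (f.fiberι y) ⊆ Set.range U'.ι := by
    rw [Scheme.Opens.range_ι, Scheme.Hom.range_fiberι]
    intro x hx
    show f x ∈ V'
    rw [show f x = y from hx]
    exact hyV'
  let ι' : F ⟶ U'.toScheme := IsOpenImmersion.lift U'.ι (f.fiberι y) hrng
  have hι' : ι' ≫ U'.ι = f.fiberι y := IsOpenImmersion.lift_fac _ _ _
  have hrngS : Set.range (S.fromSpecResidueField y) ⊆ Set.range V'.ι := by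
    rw [Scheme.range_fromSpecResidueField, Scheme.Opens.range_ι]
    exact Set.singleton_subset_iff.2 hyV'
  let a : Spec (S.residueField y) ⟶ V'.toScheme := IsOpenImmersion.lift V'.ι (S.fromSpecResidueField y) hrngS
  have ha : a ≫ V'.ι = S.fromSpecResidueField y := IsOpenImmersion.lift_fac _ _ _
  have hι'f : ι' ≫ f' = q ≫ a := by
    rw [← cancel_mono V'.ι, Category.assoc, Category.assoc, morphismRestrict_ι, reassoc_of% hι', ha]
    exact f.fiber_fac y
  have hsq : IsPullback ι' q f' a := by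
    refine IsPullback.of_right ?_ hι'f (isPullback_morphismRestrict f V').flip
    rw [hι', ha]
    exact IsPullback.of_hasPullback _ _
  -- the sections on the fibre
  obtain ⟨e', he'₀⟩ := exists_restrict_pullback_iso L U' (f.fiberι y) ι' hι' (f ⁻¹ᵁ V) hU'le
    (fun z _ => (hV'le z.2).2) (le_fibre hy)
  have he' : ∀ l, e'.hom.app ⊤ (QCoh.pullSec ι' L' (W := ⊤) (V := ⊤) le_top (τ' l)) =
      QCoh.pullSec (f.fiberι y) L (le_fibre hy) (τ₀ l) := fun l => he'₀ (τ₀ l)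
  obtain ⟨d, hd⟩ := hc.exists_left_inv
  have hr : ι' ≫ r = r₂ := comp_eq_of_sections ι' r r₂ hT hgen (PnCoh.Chow.cov_coord Z) (specULiftZIsTerminal.hom_ext _ _) τiso τ' hτiso e' t c d hd
    (fun l => (he' l).trans (hτ₀ l)) e₂
    (fun l => congrArg (fun φ => Scheme.Modules.Hom.app φ ⊤ (ProjUPX.pullG r₂ (hT l))) e₂.inv_hom_id)
  refine ⟨V', hyV', r, a, ha, ⟨τiso⟩, fun i hi1 hi2 P _ hPj => ?_⟩
  let toS : CohB1.ProjSpace N Z ⟶ Spec (CommRingCat.of Z) := CohB1.ProjSpace.toSpec N Z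
  let pP : pullback toS (specULiftZIsTerminal.from V'.toScheme) ⟶ V'.toScheme := pullback.snd _ _
  let φ : F ≅ pullback (i ≫ pP) a := (show IsPullback ι' q (i ≫ pP) a by rw [hi2]; exact hsq).isoPullback
  let θ : pullback pP a ≅ pullback toS (specULiftZIsTerminal.from (Spec (S.residueField y))) :=
    pullbackLeftPullbackSndIso toS (specULiftZIsTerminal.from V'.toScheme) a ≪≫
      pullback.congrHom rfl (specULiftZIsTerminal.hom_ext _ _)
  have hφj : φ.hom ≫ overMap i pP a ≫ θ.hom = j := by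
    refine pullback.hom_ext ?_ ?_
    · have h1 : θ.hom ≫ pullback.fst toS _ = pullback.fst pP a ≫ pullback.fst toS _ := by
        simp [θ, pullback.congrHom, pP, toS]
      rw [Category.assoc, Category.assoc, h1, pullback.lift_fst_assoc, Category.assoc, hi1,
        IsPullback.isoPullback_hom_fst_assoc, hr]
    · have h1 : θ.hom ≫ pullback.snd toS _ = pullback.snd pP a := by
        simp [θ, pullback.congrHom, pP, toS]
      rw [Category.assoc, Category.assoc, h1,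
        show overMap i pP a ≫ pullback.snd pP a = pullback.snd (i ≫ pP) a from pullback.lift_snd _ _ _]
      exact (IsPullback.isoPullback_hom_snd _).trans hjq.symm
  have h1 : overMap i pP a = φ.inv ≫ j ≫ θ.inv := by
    rw [← hφj]; simp
  rw [h1]
  exact (P.cancel_left_of_respectsIso φ.inv (j ≫ θ.inv)).2 ((P.cancel_right_of_respectsIso j θ.inv).2 hPj)

/-- A module very ample on a fibre, whose sections there lift, is very ample near the fibre. -/
theorem exists_nhd_isRelVeryAmplePn {L : X.Modules} (hL : PicF.IsInvertible L) (y : S)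
    (h : Function.Surjective ((CohBC.bc0 f (S.fromSpecResidueField y) (f.fiberToSpecResidueField y) (f.fiberι y)
      (f.fiber_fac y) L).app ⊤))
    (hva : RelAmple.IsRelVeryAmplePn (f.fiberToSpecResidueField y) ((Scheme.Modules.pullback (f.fiberι y)).obj L)) :
    ∃ V : S.Opens, y ∈ V ∧ RelAmple.IsRelVeryAmplePn (f ∣_ V) (L.restrict (f ⁻¹ᵁ V).ι) := by
  classical
  obtain ⟨N, j, hj, hjq, ⟨e⟩⟩ := hva
  obtain ⟨V', hyV', r, a, ha, ⟨τiso⟩, key⟩ := exists_nhd_map f hL y h j hjq e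
  let Z := ULift.{u} ℤ
  let 𝒜 := CohB1.polyGrading N Z
  let U' := f ⁻¹ᵁ V'
  let f' := f ∣_ V'
  let L' := L.restrict U'.ι
  let toS : CohB1.ProjSpace N Z ⟶ Spec (CommRingCat.of Z) := CohB1.ProjSpace.toSpec N Z
  let P := pullback toS (specULiftZIsTerminal.from V'.toScheme)
  let pP : P ⟶ V'.toScheme := pullback.snd _ _
  let i : U'.toScheme ⟶ P := pullback.lift r f' (specULiftZIsTerminal.hom_ext _ _)
  have hi2 : i ≫ pP = f' := pullback.lift_snd _ _ _
  -- a closed immersion on the fibre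
  haveI : IsImmersion j := hj
  haveI hjp : IsClosedImmersion j := by
    haveI : IsProper (j ≫ pullback.snd toS (specULiftZIsTerminal.from (Spec (S.residueField y)))) := by
      rw [show j ≫ pullback.snd toS _ = f.fiberToSpecResidueField y from hjq]
      exact inferInstanceAs (IsProper (pullback.snd f (S.fromSpecResidueField y)))
    haveI : IsProper toS := PnCoh.Chow.isProper_toSpec N Z
    haveI : IsProper j := IsProper.of_comp j (pullback.snd toS (specULiftZIsTerminal.from (Spec (S.residueField y))))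
    exact IsClosedImmersion.of_isPreimmersion j (Scheme.Hom.isClosedMap j).isClosed_range
  haveI : IsProper f' := inferInstance
  haveI : IsProper (i ≫ pP) := by rw [hi2]; infer_instance
  haveI : IsProper pP := by
    haveI : IsProper toS := PnCoh.Chow.isProper_toSpec N Z
    exact inferInstanceAs (IsProper (pullback.snd toS _))
  have hclosed : IsClosedImmersion (overMap i pP a) :=
    key i (pullback.lift_fst _ _ _) hi2 @IsClosedImmersion hjp
  obtain ⟨W, hyW, hW⟩ := exists_nhd_isClosedImmersion i pP (⟨y, hyV'⟩ : V'.toScheme) a (by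
    refine ⟨Spec.map (V'.ι.residueFieldMap ⟨y, hyV'⟩), ?_⟩
    rw [← cancel_mono V'.ι, Category.assoc, ha]
    exact Scheme.Hom.SpecMap_residueFieldMap_fromSpecResidueField V'.ι ⟨y, hyV'⟩) hclosed
  -- restriction
  let V'' : S.Opens := V'.ι ''ᵁ W
  have hle : V'' ≤ V' := by
    rintro _ ⟨z, -, rfl⟩
    exact z.2
  let U'' := f ⁻¹ᵁ V''
  have hUU : U'' ≤ U' := f.preimage_mono hle
  let κ : U''.toScheme ⟶ U'.toScheme := X.homOfLE hUU
  let b : V''.toScheme ⟶ V'.toScheme := S.homOfLE hle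
  let f'' := f ∣_ V''
  have hκf : κ ≫ f' = f'' ≫ b := by
    rw [← cancel_mono V'.ι, Category.assoc, morphismRestrict_ι, Category.assoc, Scheme.homOfLE_ι,
      morphismRestrict_ι, ← Category.assoc]
    congr 1
    exact Scheme.homOfLE_ι _ hUU
  let i'' : U''.toScheme ⟶ pullback toS (specULiftZIsTerminal.from V''.toScheme) :=
    pullback.lift (κ ≫ r) f'' (specULiftZIsTerminal.hom_ext _ _)
  let Φ : pullback toS (specULiftZIsTerminal.from V''.toScheme) ⟶ P :=
    pullback.map _ _ _ _ (𝟙 _) b (𝟙 _) (by simp) (specULiftZIsTerminal.hom_ext _ _)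
  have hΦ : i'' ≫ Φ = κ ≫ i := by
    refine pullback.hom_ext ?_ ?_
    · simp [i'', Φ, i]
    · simp [i'', Φ, i, hκf]
  haveI hκi : IsImmersion (κ ≫ i) := isImmersion_comp_of_restrict i κ (pP ⁻¹ᵁ W) hW fun z => by
    show pP (i (κ z)) ∈ W
    rw [show pP (i (κ z)) = f' (κ z) from congrArg (fun φ : U'.toScheme ⟶ V'.toScheme => φ (κ z)) hi2]
    obtain ⟨w, hw, hwz⟩ := (z.2 : f z.1 ∈ V'')
    have h1 : V'.ι (f' (κ z)) = V'.ι w := by
      refine Eq.trans ?_ hwz.symm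
      rw [← Scheme.Hom.comp_apply, morphismRestrict_ι, Scheme.Hom.comp_apply, ← Scheme.Hom.comp_apply]
      exact congrArg (fun φ : U''.toScheme ⟶ X => f (φ z)) (Scheme.homOfLE_ι _ hUU)
    rw [V'.ι.isOpenEmbedding.injective h1]
    exact hw
  haveI : IsImmersion (i'' ≫ Φ) := by rw [hΦ]; exact hκi
  haveI : IsImmersion i'' := IsImmersion.of_comp i'' Φ
  refine ⟨V'', ⟨⟨y, hyV'⟩, hyW, rfl⟩, N, i'', inferInstance, pullback.lift_snd _ _ _, ⟨?_⟩⟩
  let e1 : L.restrict U''.ι ≅ (Scheme.Modules.pullback κ).obj L' :=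
    (Scheme.Modules.restrictFunctorIsoPullback U''.ι).app L ≪≫
      (Scheme.Modules.pullbackCongr (Scheme.homOfLE_ι X hUU).symm).app L ≪≫
      ((Scheme.Modules.pullbackComp κ U'.ι).app L).symm ≪≫
      (Scheme.Modules.pullback κ).mapIso ((Scheme.Modules.restrictFunctorIsoPullback U'.ι).app L).symm
  exact e1 ≪≫ (Scheme.Modules.pullback κ).mapIso τiso.symm ≪≫ (Scheme.Modules.pullbackComp κ r).app _ ≪≫
    (Scheme.Modules.pullbackCongr (pullback.lift_fst _ _ _).symm).app _ ≪≫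
    ((Scheme.Modules.pullbackComp i'' (pullback.fst toS _)).app _).symm

variable [LocallyOfFinitePresentation f]

/-- Fibrewise very ampleness and exchange in degree zero give relative very ampleness. -/
theorem isRelVeryAmple_of_fibrewise {L : X.Modules} (hL : PicF.IsInvertible L)
    (hex : ∀ y, CohPullLib.ExchAt f L 0 y)
    (hva : ∀ y, RelAmple.IsRelVeryAmplePn (f.fiberToSpecResidueField y) ((Scheme.Modules.pullback (f.fiberι y)).obj L)) :
    RelProj.IsRelVeryAmple f L := by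
  have hq := ProjUPX.isQCoh_of_isInvertible hL
  have hsurj : ∀ y, Function.Surjective ((CohBC.bc0 f (S.fromSpecResidueField y) (f.fiberToSpecResidueField y) (f.fiberι y)
      (f.fiber_fac y) L).app ⊤) := fun y => by
    haveI := CohPullLib.isIso_bc0_of_exchAt (f := f) (f' := f.fiberToSpecResidueField y) (g' := f.fiberι y)
      (g := S.fromSpecResidueField y) (IsPullback.of_hasPullback _ _) hq
      (fun z => by rw [Scheme.fromSpecResidueField_apply]; exact hex y)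
    exact (ConcreteCategory.bijective_of_isIso ((CohBC.bc0 f (S.fromSpecResidueField y) (f.fiberToSpecResidueField y)
      (f.fiberι y) (f.fiber_fac y) L).app ⊤)).2
  choose V hy hV using fun y => exists_nhd_isRelVeryAmplePn f hL y (hsurj y) (hva y)
  exact RGLib.PnVeryAmple.isRelVeryAmple_of_cover f L hL V
    (top_unique fun y _ => Opens.mem_iSup.2 ⟨y, hy y⟩) hV

/-- Fibrewise very ampleness and vanishing of first cohomology on the fibres give relative very ampleness. -/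
theorem isRelVeryAmple_of_fibrewise_h1 [Flat f] {L : X.Modules} (hL : PicF.IsInvertible L)
    (hH1 : ∀ y : S, Subsingleton (Coh.HH (f.fiber y) ((Scheme.Modules.pullback (f.fiberι y)).obj L) 1))
    (hva : ∀ y, RelAmple.IsRelVeryAmplePn (f.fiberToSpecResidueField y) ((Scheme.Modules.pullback (f.fiberι y)).obj L)) :
    RelProj.IsRelVeryAmple f L := by
  have hq := ProjUPX.isQCoh_of_isInvertible hL
  have hfp : CohB1.IsFP L := QCoh.isFP_of_isFinLocFree fun x =>
    let ⟨U, hx, e⟩ := InvEnd.isFinLocFreeOfRank_one hL x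
    ⟨U, 1, hx, e⟩
  exact isRelVeryAmple_of_fibrewise f hL
    (fun y => (CohPullLib.vanAt_of_subsingleton hq hfp (H23.Seesaw.isFlatOver_of_isInvertible f hL) 1 (hH1 y)).exchAt_pred) hva

end Groth.Agent.RelVA
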