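import Groth.Agent.FlatMisc.CiNbhd
import Groth.Agent.KRegLib.Mor
import Mathlib

/-!
# A proper morphism which is a closed immersion on a fibre is one near the fibre
-/

noncomputable section

set_option autoImplicit false
set_option linter.style.haveILetI false
set_option backward.isDefEq.respectTransparency false
set_option backward.isDefEq.respectTransparency.types false

universe u

open CategoryTheory CategoryTheory.Limits AlgebraicGeometry TopologicalSpace Opposite

namespace Groth.Agent.RelVA

/-- The base change of a morphism over a base. -/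
abbrev overMap {X P S T : Scheme.{u}} (i : X ⟶ P) (p : P ⟶ S) (a : T ⟶ S) :
    pullback (i ≫ p) a ⟶ pullback p a :=
  pullback.lift (pullback.fst (i ≫ p) a ≫ i) (pullback.snd (i ≫ p) a)
    ((Category.assoc _ _ _).trans pullback.condition)

theorem isPullback_overMap {X P S T : Scheme.{u}} (i : X ⟶ P) (p : P ⟶ S) (a : T ⟶ S) :
    IsPullback (pullback.fst (i ≫ p) a) (overMap i p a) i (pullback.fst p a) := by
  refine IsPullback.of_bot ?_ (pullback.lift_fst _ _ _).symm (IsPullback.of_hasPullback p a)
  rw [show overMap i p a ≫ pullback.snd p a = pullback.snd (i ≫ p) a from pullback.lift_snd _ _ _]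
  exact IsPullback.of_hasPullback (i ≫ p) a

/-- A morphism of proper schemes which is a closed immersion on a fibre is one near the fibre. -/
theorem exists_nhd_isClosedImmersion {X P S T : Scheme.{u}} (i : X ⟶ P) (p : P ⟶ S) [IsProper p]
    [IsProper (i ≫ p)] (y : S) (a : T ⟶ S)
    (ha : ∃ w : Spec (S.residueField y) ⟶ T, w ≫ a = S.fromSpecResidueField y)
    (h : IsClosedImmersion (overMap i p a)) :
    ∃ V : S.Opens, y ∈ V ∧ IsClosedImmersion (i ∣_ (p ⁻¹ᵁ V)) := by
  haveI : IsProper i := IsProper.of_comp i p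
  obtain ⟨w, hw⟩ := ha
  have hloc : ∀ q : P, p q = y → ∃ U : P.Opens, q ∈ U ∧ IsClosedImmersion (i ∣_ U) := by
    intro q hq
    subst hq
    let v : Spec (P.residueField q) ⟶ pullback p a :=
      pullback.lift (P.fromSpecResidueField q) (Spec.map (p.residueFieldMap q) ≫ w) (by
        rw [Category.assoc, hw, Scheme.Hom.SpecMap_residueFieldMap_fromSpecResidueField])
    let l : i.fiber q ⟶ pullback (i ≫ p) a :=
      pullback.lift (i.fiberι q) (i.fiberToSpecResidueField q ≫ v ≫ pullback.snd p a) (by
        rw [← Category.assoc, i.fiber_fac q, Category.assoc, Category.assoc, Category.assoc]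
        congr 1
        rw [← Category.assoc v, pullback.lift_snd, Category.assoc, hw, Scheme.Hom.SpecMap_residueFieldMap_fromSpecResidueField])
    have hlv : l ≫ overMap i p a = i.fiberToSpecResidueField q ≫ v := by
      refine pullback.hom_ext ?_ ?_
      · rw [Category.assoc, Category.assoc, pullback.lift_fst, pullback.lift_fst_assoc, pullback.lift_fst]
        exact i.fiber_fac q
      · rw [Category.assoc, Category.assoc, pullback.lift_snd, pullback.lift_snd]
    have houter : IsPullback (l ≫ pullback.fst (i ≫ p) a) (i.fiberToSpecResidueField q) i (v ≫ pullback.fst p a) := by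
      rw [pullback.lift_fst, pullback.lift_fst]
      exact IsPullback.of_hasPullback _ _
    have hsq : IsPullback l (i.fiberToSpecResidueField q) (overMap i p a) v :=
      IsPullback.of_right houter hlv (isPullback_overMap i p a)
    haveI : IsClosedImmersion (i.fiberToSpecResidueField q) := MorphismProperty.of_isPullback hsq h
    exact FlatMisc.exists_ci_nbhd i q (V := ⊤) trivial
  choose U hqU hU using hloc
  let W : P.Opens := ⨆ (q : P) (hq : p q = y), U q hq
  let C : Set S := p '' (W : Set P)ᶜ
  have hC : IsClosed C := (Scheme.Hom.isClosedMap p) _ W.2.isClosed_compl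
  refine ⟨⟨Cᶜ, hC.isOpen_compl⟩, fun ⟨q, hqW, hq⟩ => hqW ?_, ?_⟩
  · exact Opens.mem_iSup.2 ⟨q, Opens.mem_iSup.2 ⟨hq, hqU q hq⟩⟩
  · have hle : p ⁻¹ᵁ (⟨Cᶜ, hC.isOpen_compl⟩ : S.Opens) ≤ W := fun q hq => by
      by_contra hqW
      exact hq ⟨q, hqW, rfl⟩
    let V' := p ⁻¹ᵁ (⟨Cᶜ, hC.isOpen_compl⟩ : S.Opens)
    refine IsZariskiLocalAtTarget.of_iSup_eq_top (P := @IsClosedImmersion)
      (fun qh : {q : P // p q = y} => V'.ι ⁻¹ᵁ U qh.1 qh.2) ?_ fun qh => ?_
    · refine eq_top_iff.2 fun z _ => ?_
      obtain ⟨q, hz⟩ := Opens.mem_iSup.1 (hle z.2)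
      obtain ⟨hq, hz⟩ := Opens.mem_iSup.1 hz
      exact Opens.mem_iSup.2 ⟨⟨q, hq⟩, hz⟩
    · haveI := hU qh.1 qh.2
      refine (MorphismProperty.arrow_mk_iso_iff @IsClosedImmersion
        (morphismRestrictRestrict i V' (V'.ι ⁻¹ᵁ U qh.1 qh.2))).2 ?_
      exact KRegLib.isClosedImmersion_restrict_of_le i (O := U qh.1 qh.2)
        (Scheme.Hom.image_preimage_le _ _)

end Groth.Agent.RelVA
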