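import Groth.Agent.RelVA.Main
import Groth.Agent.RelCurveCoh.Smooth
import Groth.Agent.CurveVA.Main
import Groth.Agent.PnPic.OverPic

/-!
# Very ampleness on the fibres of families of curves
-/

noncomputable section

set_option autoImplicit false
set_option linter.style.haveILetI false
set_option linter.unusedSectionVars false
set_option backward.isDefEq.respectTransparency false
set_option backward.isDefEq.respectTransparency.types false
set_option maxRecDepth 4000
set_option maxHeartbeats 1000000

universe u

open CategoryTheory CategoryTheory.Limits AlgebraicGeometry TopologicalSpace Opposite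

namespace Groth.Agent.RelVA

open Groth.Agent
open scoped Groth.Agent.H23.PicMul

/-- An immersion in projective space over a field gives very ampleness. -/
theorem isRelVeryAmplePn_of_embedding {K : Type u} [Field K] {Z : Scheme.{u}} (q : Z ⟶ Spec (CommRingCat.of K))
    {L : Z.Modules} {n : ℕ} (i : Z ⟶ CohB1.ProjSpace n K) [IsImmersion i]
    (hi : i ≫ CohB1.ProjSpace.toSpec n K = q)
    (e : (Scheme.Modules.pullback i).obj (Twist.twistProjSpace n K 1) ≅ L) :
    RelAmple.IsRelVeryAmplePn q L := by
  let c := PnPic.ptMap n (𝟙 (Spec (CommRingCat.of K)))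
  haveI : IsIso c := (PnPic.isPullback_ptMap (n := n) (𝟙 (Spec (CommRingCat.of K)))).isIso_fst_of_isIso
  refine ⟨n, i ≫ c, inferInstance, ?_, H23.PicMul.cl_eq_iff.1 ?_⟩
  · rw [Category.assoc]
    refine Eq.trans (congrArg (i ≫ ·) ((PnPic.ptMap_toBase (𝟙 _)).trans (Category.comp_id _))) hi
  · have h := congrArg (PicF.pullCl i) (PnPic.pullCl_ptMap_twistOver (n := n) (𝟙 (Spec (CommRingCat.of K))) 1)
    rw [PicClLib.pullCl_comp] at h
    exact ((H23.PicMul.cl_eq_iff.2 ⟨e.symm⟩).trans h.symm :)

/-- A module of degree at least `2g + 1` on the fibres is very ample on them, with no first cohomology. -/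
theorem fibre_veryAmple_of_deg {C S : Scheme.{u}} (f : C ⟶ S) [IsProper f] [Smooth f] [GeometricallyConnected f]
    (hdim : ∀ s : S, topologicalKrullDim ↥(f.fiber s) = 1) {L : C.Modules} (hL : PicF.IsInvertible L) (s : S)
    (hdeg : letI := GenusOneX.fibreOver f s
      2 * (Curv2.genus (S.residueField s) (f.fiber s) : ℤ) + 1 ≤
        Curv2.deg (S.residueField s) (f.fiber s) ((Scheme.Modules.pullback (f.fiberι s)).obj L) 1) :
    RelAmple.IsRelVeryAmplePn (f.fiberToSpecResidueField s) ((Scheme.Modules.pullback (f.fiberι s)).obj L) ∧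
      Subsingleton (Coh.HH (f.fiber s) ((Scheme.Modules.pullback (f.fiberι s)).obj L) 1) := by
  letI := GenusOneX.fibreOver f s
  let k := S.residueField s
  let Z := f.fiber s
  haveI : IsProper (Z ↘ Spec (CommRingCat.of k)) :=
    inferInstanceAs (IsProper (pullback.snd f (S.fromSpecResidueField s)))
  haveI : GeometricallyConnected (Z ↘ Spec (CommRingCat.of k)) :=
    inferInstanceAs (GeometricallyConnected (pullback.snd f (S.fromSpecResidueField s)))
  haveI := RelCurveCoh.fibre_smooth' f s
  haveI := RelCurveCoh.fibre_integral f s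
  haveI := CurveCohLib.isNoetherian_of_proper (k := k) (X := Z)
  haveI : GeometricallyIntegral (Z ↘ Spec (CommRingCat.of k)) :=
    ⟨fun K _ x W a b hp => by
      letI : W.Over (Spec (CommRingCat.of K)) := ⟨b⟩
      haveI : IsProper (W ↘ Spec (CommRingCat.of K)) := MorphismProperty.of_isPullback hp ‹IsProper (Z ↘ Spec (CommRingCat.of k))›
      haveI : Smooth (W ↘ Spec (CommRingCat.of K)) :=
        MorphismProperty.of_isPullback hp (RelCurveCoh.fibre_smooth' f s)
      haveI : GeometricallyConnected (W ↘ Spec (CommRingCat.of K)) :=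
        MorphismProperty.of_isPullback hp ‹GeometricallyConnected (Z ↘ Spec (CommRingCat.of k))›
      exact CurveStable.isIntegral_of_geometricallyConnected (k := K)⟩
  have h0 := CurveBC.finrank_h0_of_geometricallyConnected k Z
  have hM := PicClLib.isInvertible_pullback (f.fiberι s) hL
  obtain ⟨n, i, hi, hiq, ⟨e⟩⟩ := CurveVA.exists_embedding k Z (hdim s) h0 hM hdeg
  refine ⟨?_, ?_⟩
  · haveI := hi
    exact isRelVeryAmplePn_of_embedding (K := k) _ i hiq e
  · have hMc := CurveDeg.isCoh_of_isInvertible hM
    refine CurveCohLib.Nonspecial.h1_of_euler k (hdim s) hMc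
      (fun φ hφ => CurveCohLib.Nonspecial.section_of_sub k hMc hM (𝟙 _) φ hφ) ?_
    have h1 : Curv2.deg k Z ((Scheme.Modules.pullback (f.fiberι s)).obj L) 1 =
        Curv2.euler k Z ((Scheme.Modules.pullback (f.fiberι s)).obj L) - Curv2.euler k Z (Coh.structureModule Z) := by
      simp [Curv2.deg]
    rw [CurveCohLib.Nonspecial.euler_structure k (hdim s) h0] at h1
    have h2 : 2 * (Curv2.genus k Z : ℤ) + 1 ≤ Curv2.deg k Z ((Scheme.Modules.pullback (f.fiberι s)).obj L) 1 := hdeg
    change (Curv2.genus k Z : ℤ) ≤ _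
    linarith [Int.natCast_nonneg (Curv2.genus k Z)]

end Groth.Agent.RelVA
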