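import Groth.Agent.RelVA.Curve
import Groth.Agent.FibIso.Basic
import Groth.Agent.FibDim.BaseField
import Groth.Agent.GenusOneX.Sections
import Groth.Agent.RelCurveCoh.AmpleOmega
import Groth.Agent.CurveEmbed.Line
import Groth.Agent.Pi1X.GeomConnFF

/-!
# Families of curves of genus zero with a section
-/

noncomputable section

set_option autoImplicit false
set_option linter.style.haveILetI false
set_option linter.unusedSectionVars false
set_option backward.isDefEq.respectTransparency false
set_option backward.isDefEq.respectTransparency.types false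
set_option maxRecDepth 4000
set_option maxHeartbeats 2000000

universe u

open CategoryTheory CategoryTheory.Limits AlgebraicGeometry TopologicalSpace Opposite

namespace Groth.Agent.RelVA

open Groth.Agent
open scoped Groth.Agent.H23.PicMul

variable {X S : Scheme.{u}} (f : X ⟶ S) [IsProper f]

attribute [local instance] GenusOneX.fibreOver

/-- Dimension and first cohomology of a fibre can be read off a geometric fibre. -/
theorem fibre_data
    (hfib : ∀ (K : Type u) [Field K] [IsAlgClosed K] (x : Spec (CommRingCat.of K) ⟶ S),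
      IsIntegral (pullback f x) ∧ topologicalKrullDim ↥(pullback f x) = 1 ∧
        @Curv2.genus K _ (pullback f x) ⟨pullback.snd f x⟩ = 0) (s : S) :
    topologicalKrullDim ↥(f.fiber s) = 1 ∧
      Subsingleton (Coh.HH (f.fiber s) (Coh.structureModule (f.fiber s)) 1) := by
  let k := S.residueField s
  let Ω := AlgebraicClosure k
  let φ : Spec (CommRingCat.of Ω) ⟶ Spec (CommRingCat.of k) := Spec.map (CommRingCat.ofHom (algebraMap k Ω))
  let g : Spec (CommRingCat.of k) ⟶ S := S.fromSpecResidueField s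
  let x := φ ≫ g
  obtain ⟨-, hdim, hgen⟩ := hfib Ω x
  let q : f.fiber s ⟶ Spec (CommRingCat.of k) := pullback.snd f g
  haveI hq : IsProper q := inferInstanceAs (IsProper (pullback.snd f g))
  haveI : IsProper (f.fiber s ↘ Spec (CommRingCat.of k)) := hq
  let π : pullback f x ⟶ f.fiber s :=
    pullback.lift (pullback.fst f x) (pullback.snd f x ≫ φ) (by rw [pullback.condition, Category.assoc])
  have hpb : IsPullback π (pullback.snd f x) q φ :=
    IsPullback.of_right (v₁₃ := f) (h₁₂ := pullback.fst f g) (h₂₂ := g)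
      (by rw [show π ≫ pullback.fst f g = _ from pullback.lift_fst _ _ _]; exact IsPullback.of_hasPullback f x)
      (pullback.lift_snd _ _ _) (IsPullback.of_hasPullback f g)
  refine ⟨?_, ?_⟩
  · haveI := FibDim.subsingleton_spec_field k
    haveI := FibDim.subsingleton_spec_field Ω
    haveI : Nonempty (Spec (CommRingCat.of Ω)) := inferInstanceAs (Nonempty (PrimeSpectrum Ω))
    haveI : IsProper (pullback.snd f x) := inferInstance
    rw [← FibDim.topologicalKrullDim_baseChange hpb, hdim]
  · letI : (pullback f x).Over (Spec (CommRingCat.of Ω)) := ⟨pullback.snd f x⟩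
    haveI : IsProper (pullback f x ↘ Spec (CommRingCat.of Ω)) := inferInstanceAs (IsProper (pullback.snd f x))
    haveI := CurveCohLib.isNoetherian_of_proper (k := k) (X := f.fiber s)
    haveI := CurveCohLib.finite_HH (k := k) (CurveDeg.isCoh_of_isInvertible
      (CurveDeg.isInvertible_structureModule (X := f.fiber s))) 1
    have h := CurveBC.finrank_hh_unit k Ω π hpb 1
    exact (Module.finrank_zero_iff (R := k)).1 (h.symm.trans hgen)

/-- A family of curves of genus zero with a section is the projective line near every point. -/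
theorem exists_nhd_iso_line [Smooth f]
    (hfib : ∀ (K : Type u) [Field K] [IsAlgClosed K] (x : Spec (CommRingCat.of K) ⟶ S),
      IsIntegral (pullback f x) ∧ topologicalKrullDim ↥(pullback f x) = 1 ∧
        @Curv2.genus K _ (pullback f x) ⟨pullback.snd f x⟩ = 0)
    (σ : S ⟶ X) (hσ : σ ≫ f = 𝟙 S) (y : S) :
    ∃ (R : Type u) (_ : CommRing R) (i : Spec (CommRingCat.of R) ⟶ S), IsOpenImmersion i ∧ y ∈ Set.range i.base ∧
      ∃ e : pullback f i ≅ CohB1.ProjSpace 1 R, e.hom ≫ CohB1.ProjSpace.toSpec 1 R = pullback.snd f i := by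
  haveI : GeometricallyConnected f := Pi1X.geometricallyConnected_of_isAlgClosed f fun Ω _ _ x => by
    haveI := (hfib Ω x).1
    infer_instance
  have hd := fun s => (fibre_data f hfib s).1
  haveI : SmoothOfRelativeDimension 1 f :=
    RelCurveCoh.smoothOfRelativeDimension_of_integral_fibres f (fun s => RelCurveCoh.fibre_integral f s) hd
  -- the module of degree one
  have hI := GenusOneX.isInvertible_ker f hσ
  obtain ⟨D, hD, eD⟩ := H23.PicInv.exists_inverse hI
  have hcl : PicF.cl (ClSub.idealMod σ.ker) * PicF.cl D = PicF.cl (Coh.structureModule X) :=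
    (PicGrp.cl_eq_cl_iff _ _).2 eD
  let k := S.residueField y
  let Z := f.fiber y
  let q : Z ⟶ Spec (CommRingCat.of k) := f.fiberToSpecResidueField y
  haveI : IsProper (Z ↘ Spec (CommRingCat.of k)) := inferInstanceAs (IsProper (pullback.snd f (S.fromSpecResidueField y)))
  haveI := RelCurveCoh.fibre_integral f y
  haveI := CurveCohLib.isNoetherian_of_proper (k := k) (X := Z)
  have hDy := PicClLib.isInvertible_pullback (f.fiberι y) hD
  have hdeg : Curv2.deg k Z ((Scheme.Modules.pullback (f.fiberι y)).obj D) 1 = 1 := by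
    have h := GenusOneX.deg_mul f y hI hD hcl
    obtain ⟨e0⟩ := PicClLib.nonempty_pullback_structureModule (f.fiberι y)
    rw [GenusOneX.deg_ker f hσ y, CurveRR.deg_congr k e0 1, CurveDeg.deg_structureModule] at h
    change 0 = -1 + Curv2.deg k Z ((Scheme.Modules.pullback (f.fiberι y)).obj D) 1 at h
    omega
  have h1 := (fibre_data f hfib y).2
  have hr := CurveEmbed.h0_eq k (hd y) h1 hDy (by rw [hdeg]; norm_num)
  rw [CurveEmbed.h0_structure_eq_one k (hd y) h1 hDy hdeg, hdeg] at hr
  obtain ⟨i₀, hi₀, hi₀q, ⟨e₀⟩⟩ := CurveEmbed.exists_embedding k (hd y) h1 hDy (by rw [hdeg]; norm_num) (N := 1) (by omega)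
  haveI := hi₀
  haveI := CurveEmbed.isIso_of_closedImmersion_line k (hd y) i₀
  let c := PnPic.ptMap 1 (𝟙 (Spec (CommRingCat.of k)))
  haveI : IsIso c := (PnPic.isPullback_ptMap (n := 1) (𝟙 (Spec (CommRingCat.of k)))).isIso_fst_of_isIso
  let j := i₀ ≫ c
  have hjq : j ≫ pullback.snd (CohB1.ProjSpace.toSpec 1 (ULift.{u} ℤ)) (specULiftZIsTerminal.from (Spec (CommRingCat.of k))) = q := by
    rw [Category.assoc]
    exact Eq.trans (congrArg (i₀ ≫ ·) ((PnPic.ptMap_toBase (𝟙 _)).trans (Category.comp_id _))) hi₀q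
  obtain ⟨e⟩ : Nonempty ((Scheme.Modules.pullback (f.fiberι y)).obj D ≅
      (Scheme.Modules.pullback j).obj (Twist.twistOver 1 (Spec (CommRingCat.of k)) 1)) := by
    refine H23.PicMul.cl_eq_iff.1 ?_
    have h := congrArg (PicF.pullCl i₀) (PnPic.pullCl_ptMap_twistOver (n := 1) (𝟙 (Spec (CommRingCat.of k))) 1)
    rw [PicClLib.pullCl_comp] at h
    exact ((H23.PicMul.cl_eq_iff.2 ⟨e₀.symm⟩).trans h.symm :)
  -- sections lift
  have hsurj : Function.Surjective ((CohBC.bc0 f (S.fromSpecResidueField y) (f.fiberToSpecResidueField y) (f.fiberι y)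
      (f.fiber_fac y) D).app ⊤) := by
    have hq := ProjUPX.isQCoh_of_isInvertible hD
    have hfp : CohB1.IsFP D := QCoh.isFP_of_isFinLocFree fun x =>
      let ⟨U, hx, e⟩ := InvEnd.isFinLocFreeOfRank_one hD x
      ⟨U, 1, hx, e⟩
    have hH1 : Subsingleton (Coh.HH Z ((Scheme.Modules.pullback (f.fiberι y)).obj D) 1) := by
      obtain ⟨s, hs⟩ := CurveEmbed.exists_ne_zero k (hd y) h1 hDy (by rw [hdeg]; norm_num)
      exact CurveEmbed.subsingleton_h1_P k (hd y) hDy hs h1 0
    haveI := CohPullLib.isIso_bc0_of_exchAt (f := f) (f' := f.fiberToSpecResidueField y) (g' := f.fiberι y)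
      (g := S.fromSpecResidueField y) (IsPullback.of_hasPullback _ _) hq
      (fun z => by
        rw [Scheme.fromSpecResidueField_apply]
        exact (CohPullLib.vanAt_of_subsingleton hq hfp (H23.Seesaw.isFlatOver_of_isInvertible f hD) 1 hH1).exchAt_pred)
    exact (ConcreteCategory.bijective_of_isIso ((CohBC.bc0 f (S.fromSpecResidueField y) (f.fiberToSpecResidueField y)
      (f.fiberι y) (f.fiber_fac y) D).app ⊤)).2
  obtain ⟨V', hy, r, a, ha, -, key⟩ := exists_nhd_map f hD y hsurj j hjq e
  -- the map to the projective line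
  let toS : CohB1.ProjSpace 1 (ULift.{u} ℤ) ⟶ Spec (CommRingCat.of (ULift.{u} ℤ)) := CohB1.ProjSpace.toSpec 1 (ULift.{u} ℤ)
  let pP : pullback toS (specULiftZIsTerminal.from V'.toScheme) ⟶ V'.toScheme := pullback.snd _ _
  let i : (f ⁻¹ᵁ V').toScheme ⟶ pullback toS (specULiftZIsTerminal.from V'.toScheme) :=
    pullback.lift r (f ∣_ V') (specULiftZIsTerminal.hom_ext _ _)
  have hi : i ≫ pP = f ∣_ V' := pullback.lift_snd _ _ _
  haveI hiso : IsIso (overMap i pP a) :=
    key i (pullback.lift_fst _ _ _) hi (.isomorphisms Scheme) (inferInstanceAs (IsIso j))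
  haveI : IsProper toS := PnCoh.Chow.isProper_toSpec 1 (ULift.{u} ℤ)
  haveI : IsProper pP := inferInstanceAs (IsProper (pullback.snd toS _))
  haveI : IsProper (i ≫ pP) := by rw [hi]; infer_instance
  haveI : Smooth (f ∣_ V') := IsZariskiLocalAtTarget.restrict ‹Smooth f› V'
  haveI : Flat (i ≫ pP) := by rw [hi]; infer_instance
  haveI : LocallyOfFinitePresentation (i ≫ pP) := by rw [hi]; infer_instance
  haveI : IsProper i := IsProper.of_comp i pP
  let y' : V'.toScheme := ⟨y, hy⟩
  have hfm : IsIso (MoreMor.fiberMap i pP y') := by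
    let w := Spec.map (V'.ι.residueFieldMap y')
    have hw : w ≫ a = V'.toScheme.fromSpecResidueField y' := by
      rw [← cancel_mono V'.ι, Category.assoc, ha]
      exact Scheme.Hom.SpecMap_residueFieldMap_fromSpecResidueField V'.ι y'
    let v : pP.fiber y' ⟶ pullback pP a := pullback.lift (pP.fiberι y') (pP.fiberToSpecResidueField y' ≫ w) (by
      rw [Category.assoc, hw]; exact pP.fiber_fac y')
    have h2 := ConsPropLib.isPullback_fiberMap i pP y'
    have hv : v ≫ pullback.fst pP a = pP.fiberι y' := pullback.lift_fst _ _ _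
    rw [← hv] at h2
    have h3 : IsPullback ((isPullback_overMap i pP a).lift _ (MoreMor.fiberMap i pP y' ≫ v)
        (h2.w.trans (Category.assoc _ _ _).symm)) (MoreMor.fiberMap i pP y') (overMap i pP a) v := by
      refine IsPullback.of_right ?_ (IsPullback.lift_snd _ _ _ _) (isPullback_overMap i pP a)
      rw [IsPullback.lift_fst]
      exact h2
    exact MorphismProperty.of_isPullback (P := MorphismProperty.isomorphisms Scheme) h3 hiso
  let U : V'.toScheme.Opens := ⟨_, FibIso.isOpen_setOf_isIso_fiberMap i pP⟩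
  haveI hO : IsIso (i ∣_ (pP ⁻¹ᵁ U)) := FibIso.isIso_restrict i pP U fun s hs => hs
  obtain ⟨W, hW, hyW, hWU⟩ := exists_isAffineOpen_mem_and_subset (x := y) (U := V'.ι ''ᵁ U) ⟨y', hfm, rfl⟩
  let x : Spec Γ(S, W) ⟶ S := hW.fromSpec
  have hxU : Set.range x ⊆ Set.range V'.ι := by
    rw [IsAffineOpen.range_fromSpec, Scheme.Opens.range_ι]
    intro z hz
    obtain ⟨z', -, rfl⟩ := hWU hz
    exact z'.2
  let w : Spec Γ(S, W) ⟶ V'.toScheme := IsOpenImmersion.lift V'.ι x hxU
  have hw : w ≫ V'.ι = x := IsOpenImmersion.lift_fac _ _ _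
  have hwU : ∀ z, w z ∈ U := fun z => by
    obtain ⟨z', hz', he⟩ := hWU (show x z ∈ (W : Set S) by rw [← hW.range_fromSpec]; exact ⟨z, rfl⟩)
    rw [← hw, Scheme.Hom.comp_apply] at he
    rwa [← V'.ι.isOpenEmbedding.injective he]
  have hov : IsIso (overMap i pP w) := by
    let O := pP ⁻¹ᵁ U
    let kk : pullback pP w ⟶ O.toScheme := IsOpenImmersion.lift O.ι (pullback.fst pP w) (by
      rw [Scheme.Opens.range_ι]
      rintro _ ⟨z, rfl⟩
      show pP (pullback.fst pP w z) ∈ U
      rw [← Scheme.Hom.comp_apply, pullback.condition, Scheme.Hom.comp_apply]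
      exact hwU _)
    have hkk : kk ≫ O.ι = pullback.fst pP w := IsOpenImmersion.lift_fac _ _ _
    have h2 := isPullback_overMap i pP w
    rw [← hkk] at h2
    have hsq := (isPullback_morphismRestrict i O).flip
    have h3 : IsPullback (hsq.lift _ (overMap i pP w ≫ kk) (h2.w.trans (Category.assoc _ _ _).symm))
        (overMap i pP w) (i ∣_ O) kk := by
      refine IsPullback.of_right ?_ (IsPullback.lift_snd _ _ _ _) hsq
      rw [IsPullback.lift_fst]
      exact h2
    exact MorphismProperty.of_isPullback (P := MorphismProperty.isomorphisms Scheme) h3 hO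
  have hf' : IsPullback (pullback.fst (i ≫ pP) w ≫ (f ⁻¹ᵁ V').ι) (pullback.snd (i ≫ pP) w) f x := by
    rw [← hw]
    exact (IsPullback.of_hasPullback (i ≫ pP) w).paste_horiz (hi ▸ (isPullback_morphismRestrict f V').flip)
  let θ : pullback pP w ≅ pullback toS (specULiftZIsTerminal.from (Spec Γ(S, W))) :=
    pullbackLeftPullbackSndIso toS (specULiftZIsTerminal.from V'.toScheme) w ≪≫
      pullback.congrHom rfl (specULiftZIsTerminal.hom_ext _ _)
  have hθ : θ.hom ≫ pullback.snd toS _ = pullback.snd pP w := by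
    simp [θ, pullback.congrHom, pP, toS]
  let d := PnPic.ptMap 1 (𝟙 (Spec (CommRingCat.of Γ(S, W))))
  haveI : IsIso d := (PnPic.isPullback_ptMap (n := 1) (𝟙 (Spec (CommRingCat.of Γ(S, W))))).isIso_fst_of_isIso
  refine ⟨Γ(S, W), inferInstance, x, inferInstance, ?_,
    hf'.isoPullback.symm ≪≫ asIso (overMap i pP w) ≪≫ θ ≪≫ (asIso d).symm, ?_⟩
  · exact hW.range_fromSpec.symm ▸ hyW
  · have hd' : CohB1.ProjSpace.toSpec 1 Γ(S, W) = d ≫ pullback.snd toS (specULiftZIsTerminal.from (Spec Γ(S, W))) :=
      ((PnPic.ptMap_toBase (𝟙 _)).trans (Category.comp_id _)).symm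
    simp only [Iso.trans_hom, Iso.symm_hom, asIso_hom, asIso_inv, Category.assoc, hd']
    erw [IsIso.inv_hom_id_assoc, hθ, show overMap i pP w ≫ pullback.snd pP w = pullback.snd (i ≫ pP) w from
      pullback.lift_snd _ _ _]
    exact hf'.isoPullback_inv_snd

end Groth.Agent.RelVA
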