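import Groth.Agent.RelVA.GenusZero
import Groth.Agent.H23.EquidimFibres
import Mathlib.AlgebraicGeometry.AlgClosed.Basic
import Mathlib.RingTheory.Artinian.Module

/-!
# Curves of genus zero over Artinian local rings
-/

noncomputable section

set_option autoImplicit false
set_option linter.style.haveILetI false
set_option linter.unusedSectionVars false
set_option backward.isDefEq.respectTransparency false
set_option backward.isDefEq.respectTransparency.types false
set_option maxHeartbeats 1000000

universe u

open CategoryTheory CategoryTheory.Limits AlgebraicGeometry TopologicalSpace Opposite IsLocalRing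

namespace Groth.Agent.RelVA

open Groth.Agent

variable (C : Type u) [CommRing C] [IsArtinianRing C] [IsLocalRing C] [IsAlgClosed (ResidueField C)]

/-- A smooth morphism to an Artinian local scheme with a point on the closed fibre has a section. -/
theorem exists_section_of_artinian {X : Scheme.{u}} (f : X ⟶ Spec (CommRingCat.of C)) [Smooth f]
    [Nonempty ↥(pullback f (Spec.map (CommRingCat.ofHom (residue C))))] :
    ∃ σ : Spec (CommRingCat.of C) ⟶ X, σ ≫ f = 𝟙 _ := by
  let k := ResidueField C
  let ρ : Spec (CommRingCat.of k) ⟶ Spec (CommRingCat.of C) := Spec.map (CommRingCat.ofHom (residue C))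
  let q : pullback f ρ ⟶ Spec (CommRingCat.of k) := pullback.snd f ρ
  haveI : LocallyOfFiniteType q := MorphismProperty.pullback_snd _ _ inferInstance
  haveI : JacobsonSpace ↥(pullback f ρ) := LocallyOfFiniteType.jacobsonSpace q
  obtain ⟨z, hz⟩ : (closedPoints ↥(pullback f ρ)).Nonempty := by
    rw [Set.nonempty_iff_ne_empty]
    intro h
    have h1 := closure_closedPoints (X := ↥(pullback f ρ))
    rw [h, closure_empty] at h1
    exact Set.empty_ne_univ h1
  obtain ⟨p₀, hp₀⟩ := (pointEquivClosedPoint q).symm ⟨z, hz⟩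
  let p : Spec (CommRingCat.of k) ⟶ X := p₀ ≫ pullback.fst f ρ
  have hp : p ≫ f = ρ := by
    rw [Category.assoc, pullback.condition, ← Category.assoc]
    exact (congrArg (· ≫ ρ) hp₀).trans (Category.id_comp _)
  obtain ⟨U, hU, hxU, -⟩ := exists_isAffineOpen_mem_and_subset (x := p (closedPoint k)) (U := (⊤ : X.Opens)) trivial
  have hr : Set.range p ⊆ Set.range hU.fromSpec := by
    rw [hU.range_fromSpec]
    rintro _ ⟨w, rfl⟩
    rwa [Subsingleton.elim (α := PrimeSpectrum k) w (closedPoint k)]
  let l : Spec (CommRingCat.of k) ⟶ Spec Γ(X, U) := IsOpenImmersion.lift hU.fromSpec p hr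
  let φ : CommRingCat.of C ⟶ Γ(X, U) := Spec.preimage (hU.fromSpec ≫ f)
  let ψ : Γ(X, U) ⟶ CommRingCat.of k := Spec.preimage l
  have hφψ : φ ≫ ψ = CommRingCat.ofHom (residue C) := by
    apply Spec.map_injective
    rw [Spec.map_comp, Spec.map_preimage, Spec.map_preimage, IsOpenImmersion.lift_fac_assoc, hp]
  have hsm : φ.hom.Smooth := by
    rw [← HasRingHomProperty.Spec_iff (P := @Smooth), Spec.map_preimage]
    infer_instance
  letI : Algebra C Γ(X, U) := φ.hom.toAlgebra
  haveI : Algebra.Smooth C Γ(X, U) := hsm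
  let g : Γ(X, U) →ₐ[C] C ⧸ maximalIdeal C :=
    { ψ.hom with commutes' := fun c => congrArg (fun χ : CommRingCat.of C ⟶ CommRingCat.of k => χ c) hφψ }
  obtain ⟨s, -⟩ := Algebra.FormallySmooth.exists_lift (maximalIdeal C)
    (by rw [← IsLocalRing.jacobson_eq_maximalIdeal ⊥ bot_ne_top]; exact IsArtinianRing.isNilpotent_jacobson_bot) g
  refine ⟨Spec.map (CommRingCat.ofHom s.toRingHom) ≫ hU.fromSpec, ?_⟩
  rw [Category.assoc, show hU.fromSpec ≫ f = Spec.map φ from (Spec.map_preimage _).symm, ← Spec.map_comp,
    show φ ≫ CommRingCat.ofHom s.toRingHom = 𝟙 _ from CommRingCat.hom_ext (RingHom.ext fun c => s.commutes c),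
    Spec.map_id]

/-- A family of curves of genus zero over an Artinian local ring with algebraically closed residue field is trivial. -/
theorem exists_iso_line_of_artinian {X : Scheme.{u}} (f : X ⟶ Spec (CommRingCat.of C)) [Smooth f] [IsProper f]
    (hint : IsIntegral (pullback f (Spec.map (CommRingCat.ofHom (residue C)))))
    (hdim : topologicalKrullDim ↥(pullback f (Spec.map (CommRingCat.ofHom (residue C)))) = 1)
    (hg : @Curv2.genus (ResidueField C) _ (pullback f (Spec.map (CommRingCat.ofHom (residue C))))
        ⟨pullback.snd f (Spec.map (CommRingCat.ofHom (residue C)))⟩ = 0) :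
    ∃ e : X ≅ CohB1.ProjSpace 1 C, e.hom ≫ CohB1.ProjSpace.toSpec 1 C = f := by
  let k := ResidueField C
  let ρ : Spec (CommRingCat.of k) ⟶ Spec (CommRingCat.of C) := Spec.map (CommRingCat.ofHom (residue C))
  let Z := pullback f ρ
  let q : Z ⟶ Spec (CommRingCat.of k) := pullback.snd f ρ
  haveI : IsIntegral Z := hint
  obtain ⟨σ, hσ⟩ := exists_section_of_artinian C f
  haveI hq : IsProper q := inferInstanceAs (IsProper (pullback.snd f ρ))
  haveI : IsIntegral (Over.mk q).left := hint
  haveI : GeometricallyIntegral (Over.mk q).hom := H23.EquidimFibres.geometricallyIntegral_of_isAlgClosed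
  letI : Z.Over (Spec (CommRingCat.of k)) := ⟨q⟩
  haveI : IsProper (Z ↘ Spec (CommRingCat.of k)) := hq
  have hfib : ∀ (K : Type u) [Field K] [IsAlgClosed K] (x : Spec (CommRingCat.of K) ⟶ Spec (CommRingCat.of C)),
      IsIntegral (pullback f x) ∧ topologicalKrullDim ↥(pullback f x) = 1 ∧
        @Curv2.genus K _ (pullback f x) ⟨pullback.snd f x⟩ = 0 := by
    intro K _ _ x
    let χ : C →+* K := (Spec.preimage x).hom
    have hχ : ∀ c ∈ maximalIdeal C, χ c = 0 := fun c hc => by
      obtain ⟨n, hn⟩ : IsNilpotent (maximalIdeal C) := by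
        rw [← IsLocalRing.jacobson_eq_maximalIdeal ⊥ bot_ne_top]; exact IsArtinianRing.isNilpotent_jacobson_bot
      have h1 := Ideal.pow_mem_pow hc n
      rw [hn] at h1
      have h2 : χ c ^ n = 0 := by rw [← map_pow, h1, map_zero]
      exact pow_eq_zero_iff'.1 h2 |>.1
    let α : k →+* K := Ideal.Quotient.lift (maximalIdeal C) χ hχ
    letI : Algebra k K := α.toAlgebra
    let φ : Spec (CommRingCat.of K) ⟶ Spec (CommRingCat.of k) := Spec.map (CommRingCat.ofHom (algebraMap k K))
    have hx : φ ≫ ρ = x := by
      rw [← Spec.map_comp, show CommRingCat.ofHom (residue C) ≫ CommRingCat.ofHom (algebraMap k K) = Spec.preimage x from rfl,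
        Spec.map_preimage]
    let π : pullback f x ⟶ Z :=
      pullback.lift (pullback.fst f x) (pullback.snd f x ≫ φ) (by rw [Category.assoc, hx, pullback.condition])
    have hpb : IsPullback π (pullback.snd f x) q φ :=
      IsPullback.of_right (v₁₃ := f) (h₁₂ := pullback.fst f ρ) (h₂₂ := ρ)
        (by rw [show π ≫ pullback.fst f ρ = _ from pullback.lift_fst _ _ _, hx]; exact IsPullback.of_hasPullback f x)
        (pullback.lift_snd _ _ _) (IsPullback.of_hasPullback f ρ)
    refine ⟨GeometricallyIntegral.geometrically_isIntegral (f := (Over.mk q).hom) φ π (pullback.snd f x) hpb, ?_, ?_⟩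
    · haveI := FibDim.subsingleton_spec_field k
      haveI := FibDim.subsingleton_spec_field K
      haveI : Nonempty (Spec (CommRingCat.of K)) := inferInstanceAs (Nonempty (PrimeSpectrum K))
      haveI : LocallyOfFiniteType (pullback.snd f x) := inferInstance
      rw [FibDim.topologicalKrullDim_baseChange hpb]
      exact hdim
    · letI : (pullback f x).Over (Spec (CommRingCat.of K)) := ⟨pullback.snd f x⟩
      haveI : IsProper (pullback f x ↘ Spec (CommRingCat.of K)) := inferInstanceAs (IsProper (pullback.snd f x))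
      exact (CurveBC.genus_eq k K π hpb).trans hg
  obtain ⟨R, _, i, hi, hy, e, he⟩ := exists_nhd_iso_line f hfib σ hσ (closedPoint C)
  haveI := hi
  haveI : IsIso i := by
    haveI : Surjective i := ⟨fun z => by
      haveI : Ring.KrullDimLE 0 C := inferInstance
      rw [Subsingleton.elim (α := PrimeSpectrum C) z (closedPoint C)]
      exact hy⟩
    exact IsOpenImmersion.isIso i
  haveI : IsIso (pullback.fst f i) := inferInstance
  let γ : C →+* R := (Spec.preimage i).hom
  haveI : IsIso (Spec.map (CommRingCat.ofHom γ)) := by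
    rw [show Spec.map (CommRingCat.ofHom γ) = i from Spec.map_preimage i]; infer_instance
  haveI : IsIso (ProjX.pmap 1 γ) := (ProjX.isPullback_pmap 1 γ).isIso_fst_of_isIso
  refine ⟨(asIso (pullback.fst f i)).symm ≪≫ e ≪≫ asIso (ProjX.pmap 1 γ), ?_⟩
  simp only [Iso.trans_hom, Iso.symm_hom, asIso_inv, asIso_hom, Category.assoc]
  rw [(ProjX.isPullback_pmap 1 γ).w, show Spec.map (CommRingCat.ofHom γ) = i from Spec.map_preimage i,
    reassoc_of% he, ← pullback.condition, IsIso.inv_hom_id_assoc]

end Groth.Agent.RelVA
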